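import Mathlib

/-!
Counting two-dimensional subspaces, semilinear bounds and small arithmetic for linear groups
transitive on planes.
-/

set_option autoImplicit false
set_option linter.style.haveILetI false

namespace Cfsg.Agent.Lib.SemilinearSylow

section Planes

variable {p : ℕ} [Fact p.Prime] {V : Type*} [AddCommGroup V] [Module (ZMod p) V] [Finite V]

/-- The type of two-dimensional subspaces. -/
abbrev Plane (p : ℕ) [Fact p.Prime] (V : Type*) [AddCommGroup V] [Module (ZMod p) V] :=
  {W : Submodule (ZMod p) V // Module.finrank (ZMod p) W = 2}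

theorem span_eq_of_li {W : Submodule (ZMod p) V} (hW : Module.finrank (ZMod p) W = 2)
    (s : Fin 2 → V) (hs : LinearIndependent (ZMod p) s) (hsW : ∀ i, s i ∈ W) :
    Submodule.span (ZMod p) (Set.range s) = W := by
  haveI : FiniteDimensional (ZMod p) V := Module.Finite.of_finite
  refine Submodule.eq_of_le_of_finrank_eq (Submodule.span_le.mpr ?_) ?_
  · rintro _ ⟨i, rfl⟩; exact hsW i
  · rw [finrank_span_eq_card hs, Fintype.card_fin, hW]

theorem pair_ext (x y : Σ W : Plane p V, {t : Fin 2 → W.1 // LinearIndependent (ZMod p) t})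
    (h : ∀ i, (x.2.1 i : V) = (y.2.1 i : V)) : x = y := by
  obtain ⟨W, t, ht⟩ := x
  obtain ⟨W', t', ht'⟩ := y
  have hW : W = W' := Subtype.ext (by
    rw [← span_eq_of_li W.2 (fun i => (t i : V)) (ht.map' W.1.subtype (Submodule.ker_subtype _))
        (fun i => (t i).2),
      ← span_eq_of_li W'.2 (fun i => (t' i : V)) (ht'.map' W'.1.subtype (Submodule.ker_subtype _))
        (fun i => (t' i).2)]
    exact congrArg (fun s => Submodule.span (ZMod p) (Set.range s)) (funext h))
  subst hW
  have : t = t' := funext fun i => Subtype.ext (h i)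
  subst this
  rfl

/-- Independent pairs are sorted by the plane they span. -/
noncomputable def pairsEquiv :
    {s : Fin 2 → V // LinearIndependent (ZMod p) s} ≃
      Σ W : Plane p V, {t : Fin 2 → W.1 // LinearIndependent (ZMod p) t} where
  toFun s :=
    ⟨⟨Submodule.span (ZMod p) (Set.range s.1), by rw [finrank_span_eq_card s.2, Fintype.card_fin]⟩,
      ⟨fun i => ⟨s.1 i, Submodule.subset_span ⟨i, rfl⟩⟩,
        LinearIndependent.of_comp (Submodule.subtype _) s.2⟩⟩
  invFun x := ⟨fun i => ((x.2.1 i : x.1.1) : V), x.2.2.map' x.1.1.subtype (Submodule.ker_subtype _)⟩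
  left_inv s := by ext; rfl
  right_inv x := pair_ext _ _ fun _ => rfl

theorem card_planes_mul (n : ℕ) (hn : 2 ≤ n) (hcard : Nat.card V = p ^ n) :
    Nat.card (Plane p V) * ((p ^ 2 - 1) * (p ^ 2 - p)) = (p ^ n - 1) * (p ^ n - p) := by
  classical
  haveI : FiniteDimensional (ZMod p) V := Module.Finite.of_finite
  have hfr : Module.finrank (ZMod p) V = n := by
    have h := Module.natCard_eq_pow_finrank (K := ZMod p) (V := V)
    rw [hcard, Nat.card_zmod] at h
    exact (Nat.pow_right_injective (Fact.out : p.Prime).two_le h).symm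
  have h1 : Nat.card {s : Fin 2 → V // LinearIndependent (ZMod p) s} = (p ^ n - 1) * (p ^ n - p) := by
    rw [card_linearIndependent (by omega), Fin.prod_univ_two, hfr, ZMod.card]
    simp
  haveI : Finite (Plane p V) := inferInstance
  haveI := Fintype.ofFinite (Plane p V)
  rw [Nat.card_congr pairsEquiv, Nat.card_sigma] at h1
  rw [← h1, Finset.sum_congr rfl (g := fun _ => (p ^ 2 - 1) * (p ^ 2 - p)), Finset.sum_const,
    Finset.card_univ, ← Nat.card_eq_fintype_card, smul_eq_mul]
  intro W _
  rw [card_linearIndependent (le_of_eq W.2.symm), Fin.prod_univ_two, W.2, ZMod.card]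
  simp

theorem exists_plane (n : ℕ) (hn : 2 ≤ n) (hcard : Nat.card V = p ^ n) : Nonempty (Plane p V) := by
  haveI : Finite (Plane p V) := inferInstance
  have h := card_planes_mul (p := p) (V := V) n hn hcard
  have hp := (Fact.out : p.Prime).two_le
  have h2 : p < p ^ n := lt_self_pow₀ (by omega) (by omega)
  refine (Nat.card_pos_iff.mp (Nat.pos_of_ne_zero fun h0 => ?_)).1
  rw [h0, zero_mul] at h
  have : 0 < (p ^ n - 1) * (p ^ n - p) := Nat.mul_pos (by omega) (by omega)
  omega

end Planes

section Aut

variable (p : ℕ) [Fact p.Prime] (n : ℕ)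

theorem card_ringAut_galoisField (hn : n ≠ 0) : Nat.card (GaloisField p n ≃+* GaloisField p n) = n := by
  haveI : Finite (GaloisField p n) := Nat.finite_of_card_ne_zero (by
    rw [GaloisField.card p n hn]; exact pow_ne_zero _ (Fact.out : p.Prime).ne_zero)
  have hgal : IsGalois (ZMod p) (GaloisField p n) := inferInstance
  let e : (GaloisField p n ≃+* GaloisField p n) ≃ Gal(GaloisField p n/ZMod p) :=
    { toFun := fun f => AlgEquiv.ofRingEquiv (f := f) fun x =>
        RingHom.congr_fun (RingHom.ext_zmod (f.toRingHom.comp (algebraMap (ZMod p) _)) (algebraMap _ _)) x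
      invFun := fun f => f.toRingEquiv
      left_inv := fun f => by ext; rfl
      right_inv := fun f => by ext; rfl }
  rw [Nat.card_congr e, IsGalois.card_aut_eq_finrank, GaloisField.finrank p hn]

end Aut

end Cfsg.Agent.Lib.SemilinearSylow
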