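import Cfsg.Agent.Lib.SemilinearSylow.Linear
import Cfsg.Prelude.Def_Perm

/-!
A group with a normal elementary abelian Sylow subgroup all of whose subgroups of equal order are
conjugate acts semi-affinely modulo its `p'`-core.
-/

set_option autoImplicit false
set_option linter.style.haveILetI false
set_option linter.unusedSectionVars false

open scoped IsMulCommutative

namespace Cfsg.Agent.Lib.SemilinearSylow

open Cfsg.Agent.Lib.Cores

theorem card_affine_le (p n : ℕ) [Fact p.Prime] (hn : n ≠ 0) :
    Nat.card (Cfsg.affineGroup (GaloisField p n)) ≤ p ^ n * (p ^ n - 1) := by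
  haveI : Finite (GaloisField p n) := Nat.finite_of_card_ne_zero (by
    rw [GaloisField.card p n hn]; exact pow_ne_zero _ (Fact.out : p.Prime).ne_zero)
  have h1 : Nat.card (GaloisField p n × (GaloisField p n)ˣ) = p ^ n * (p ^ n - 1) := by
    rw [Nat.card_prod, Nat.card_units, GaloisField.card p n hn]
  rw [← h1]
  refine Nat.card_le_card_of_surjective
    (fun x : GaloisField p n × (GaloisField p n)ˣ =>
      (⟨(Equiv.mulLeft₀ (x.2 : GaloisField p n) x.2.ne_zero).trans (Equiv.addRight x.1),
        x.2, x.1, fun y => rfl⟩ : Cfsg.affineGroup (GaloisField p n))) ?_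
  rintro ⟨σ, a, b, h⟩
  exact ⟨(b, a), Subtype.ext (Equiv.ext fun y => (h y).symm)⟩

theorem card_semiaffine_le (p n : ℕ) [Fact p.Prime] (hn : n ≠ 0) :
    Nat.card (Cfsg.semiaffineGroup (GaloisField p n)) ≤ p ^ n * ((p ^ n - 1) * n) := by
  haveI : Finite (GaloisField p n) := Nat.finite_of_card_ne_zero (by
    rw [GaloisField.card p n hn]; exact pow_ne_zero _ (Fact.out : p.Prime).ne_zero)
  haveI : Finite (GaloisField p n ≃+* GaloisField p n) :=
    Nat.finite_of_card_ne_zero (by rw [card_ringAut_galoisField p n hn]; exact hn)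
  have h1 : Nat.card (GaloisField p n × (GaloisField p n)ˣ × (GaloisField p n ≃+* GaloisField p n)) =
      p ^ n * ((p ^ n - 1) * n) := by
    rw [Nat.card_prod, Nat.card_prod, Nat.card_units, card_ringAut_galoisField p n hn,
      GaloisField.card p n hn]
  rw [← h1]
  refine Nat.card_le_card_of_surjective
    (fun x : GaloisField p n × (GaloisField p n)ˣ × (GaloisField p n ≃+* GaloisField p n) =>
      (⟨x.2.2.toEquiv.trans
          ((Equiv.mulLeft₀ (x.2.1 : GaloisField p n) x.2.1.ne_zero).trans (Equiv.addRight x.1)),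
        x.2.1, x.1, x.2.2, fun y => rfl⟩ : Cfsg.semiaffineGroup (GaloisField p n))) ?_
  rintro ⟨σ, a, b, φ, h⟩
  exact ⟨(b, a, φ), Subtype.ext (Equiv.ext fun y => (h y).symm)⟩

variable {p : ℕ} [Fact p.Prime] {N : Type*} [Group N] [Finite N]

theorem group_main (A : Subgroup N) [A.Normal] [IsMulCommutative A] [Module (ZMod p) (Additive A)]
    (L : Subgroup N) (hcompl : A.IsComplement' L) (hL : ¬ p ∣ Nat.card L)
    (n : ℕ) (hn : 3 ≤ n) (hcard : Nat.card A = p ^ n)
    (hsolv : Group.IsSolvable (N ⧸ Cfsg.pPrimeCore p N))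
    (hconj : ∀ B B' : Subgroup N, B ≤ A → B' ≤ A → Nat.card B = Nat.card B' →
      ∃ x : N, B' = B.map (MulAut.conj x).toMonoidHom) :
    (n = 3 ∧ (∃ f : N ⧸ Cfsg.pPrimeCore p N →* ↥(Cfsg.semiaffineGroup (GaloisField p 3)),
        Function.Injective f) ∧
      (p = 2 → Nonempty (N ⧸ Cfsg.pPrimeCore p N ≃* Cfsg.semiaffineGroup (GaloisField 2 3)) ∨
               Nonempty (N ⧸ Cfsg.pPrimeCore p N ≃* Cfsg.affineGroup (GaloisField 2 3)))) ∨
    (n = 5 ∧ p = 2 ∧ Nonempty (N ⧸ Cfsg.pPrimeCore p N ≃* Cfsg.semiaffineGroup (GaloisField 2 5))) := by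
  classical
  have hp : p.Prime := Fact.out
  set K := Cfsg.pPrimeCore p N with hK
  have hcardV : Nat.card (Additive A) = p ^ n := (Nat.card_congr Additive.toMul).trans hcard
  haveI : Nontrivial (Additive A) := Finite.one_lt_card_iff_nontrivial.mp
    (hcardV ▸ Nat.one_lt_pow (by omega) hp.one_lt)
  have hzero : ∀ v : Additive A, p • v = 0 := fun v => ZModModule.char_nsmul_eq_zero p v
  let ρ : L →* (Additive A ≃ₗ[ZMod p] Additive A) :=
    MonoidHom.mk' (fun l => (MulEquiv.toAdditive (MulAut.conjNormal (H := A) (l : N))).toLinearEquiv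
      fun c x => ZMod.map_smul _ c x) fun l m => LinearEquiv.ext fun x => by
        show Additive.ofMul (MulAut.conjNormal ((l : N) * m) (Additive.toMul x)) = _
        rw [map_mul]; rfl
  have hρ : ∀ (l : L) (x : Additive A),
      ((Additive.toMul (ρ l x) : A) : N) = (l : N) * (Additive.toMul x : A) * (l : N)⁻¹ :=
    fun l x => rfl
  have hdec : ∀ x : N, ∃ (v : A) (l : L), x = v * l := fun x => by
    obtain ⟨⟨v, l⟩, h⟩ := hcompl.2 x
    exact ⟨v, l, h.symm⟩
  have hAL : ∀ z : N, z ∈ A → z ∈ L → z = 1 := fun z h1 h2 =>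
    Subgroup.mem_bot.mp (hcompl.disjoint.le_bot ⟨h1, h2⟩)
  have hcomm : ∀ a b : N, a ∈ A → b ∈ A → a * b = b * a := fun a b ha hb =>
    congrArg Subtype.val (mul_comm (⟨a, ha⟩ : A) ⟨b, hb⟩)
  -- the core centralises `A` and lies in `L`
  have hKp : (Nat.card K).Coprime p := (hp.coprime_iff_not_dvd.mpr not_dvd_card_pPrimeCore).symm
  have hKA : Disjoint K A := by
    exact Subgroup.disjoint_of_coprime_natCard (hcard ▸ hKp.pow_right n)
  haveI hKn : K.Normal := inferInstance
  have hKfix : ∀ k ∈ K, ∃ l : L, (l : N) = k ∧ ρ l = 1 := by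
    intro k hk
    have hc : ∀ a ∈ A, k * a = a * k := fun a ha =>
      Subgroup.commute_of_normal_of_disjoint K A hKn inferInstance hKA k a hk ha
    obtain ⟨v, l, hvl⟩ := hdec k
    have hcl : ∀ a ∈ A, (l : N) * a = a * l := by
      intro a ha
      have h1 := hc a ha
      rw [hvl, mul_assoc, ← mul_assoc a, hcomm a v ha v.2, mul_assoc] at h1
      exact mul_left_cancel h1
    have hpow : k ^ Nat.card K = 1 := congrArg Subtype.val (pow_card_eq_one' (x := (⟨k, hk⟩ : K)))
    rw [hvl, (show Commute (v : N) l from (hcl v v.2).symm).mul_pow] at hpow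
    have hv1 : (v : N) ^ Nat.card K = 1 := hAL _ (A.pow_mem v.2 _) (by
      rw [eq_inv_of_mul_eq_one_left hpow]; exact L.inv_mem (L.pow_mem l.2 _))
    have hv : (v : N) = 1 := orderOf_eq_one_iff.mp (Nat.eq_one_of_dvd_coprimes (hKp.pow_right n)
      (orderOf_dvd_of_pow_eq_one hv1) (hcard ▸ Subgroup.orderOf_dvd_natCard A v.2))
    refine ⟨l, by rw [hvl, hv, one_mul], LinearEquiv.ext fun x => ?_⟩
    apply Additive.toMul.injective
    apply Subtype.ext
    rw [hρ, hcl _ (Additive.toMul x : A).2]
    exact mul_inv_cancel_right _ _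
  -- conjugation of subgroups of `A` is done by `L`
  have hconjL : ∀ (x : N) (v : A) (l : L), x = v * l → ∀ a : A,
      ((Additive.toMul (ρ l (Additive.ofMul a)) : A) : N) = MulAut.conj x (a : N) := by
    intro x v l hx a
    rw [hρ, MulAut.conj_apply, hx, mul_inv_rev]
    have hla : (l : N) * a * (l : N)⁻¹ ∈ A := (inferInstance : A.Normal).conj_mem _ a.2 _
    calc (l : N) * a * (l : N)⁻¹ = (v : N) * (((l : N) * a * (l : N)⁻¹)) * (v : N)⁻¹ := by
          rw [hcomm _ _ v.2 hla, mul_inv_cancel_right]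
      _ = _ := by group
  let H := ρ.range
  have hline : ∀ v w : Additive A, v ≠ 0 → w ≠ 0 →
      ∃ g : H, ∃ c : ZMod p, H.subtype g v = c • w := by
    intro v w hv hw
    have hord : ∀ u : Additive A, u ≠ 0 →
        Nat.card (Subgroup.zpowers ((Additive.toMul u : A) : N)) = p := by
      intro u hu
      rw [Nat.card_zpowers, Subgroup.orderOf_coe]
      refine orderOf_eq_prime ?_ fun h1 => hu (Additive.toMul.injective h1)
      exact congrArg Additive.toMul (hzero u)
    obtain ⟨x, hx⟩ := hconj (Subgroup.zpowers ((Additive.toMul v : A) : N))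
      (Subgroup.zpowers ((Additive.toMul w : A) : N)) (Subgroup.zpowers_le.mpr (Additive.toMul v : A).2)
      (Subgroup.zpowers_le.mpr (Additive.toMul w : A).2) ((hord v hv).trans (hord w hw).symm)
    obtain ⟨a, l, hal⟩ := hdec x
    have h1 : MulAut.conj x ((Additive.toMul v : A) : N) ∈
        Subgroup.zpowers ((Additive.toMul w : A) : N) := hx ▸ ⟨_, Subgroup.mem_zpowers _, rfl⟩
    obtain ⟨k, hk⟩ := h1
    refine ⟨⟨ρ l, l, rfl⟩, (k : ZMod p), ?_⟩
    show ρ l v = (k : ZMod p) • w
    rw [Int.cast_smul_eq_zsmul]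
    apply Additive.toMul.injective
    apply Subtype.ext
    rw [← ofMul_toMul v, hconjL x a l hal, toMul_zsmul, SubgroupClass.coe_zpow]
    exact hk.symm
  have hplane : ∀ W W' : Plane p (Additive A), ∃ g : H,
      W.1.map (H.subtype g : Additive A →ₗ[ZMod p] Additive A) = W'.1 := by
    intro W W'
    let S : Plane p (Additive A) → Subgroup N := fun U =>
      (AddSubgroup.toSubgroup' U.1.toAddSubgroup).map A.subtype
    have hS : ∀ U, Nat.card (S U) = p ^ 2 := fun U => by
      haveI : FiniteDimensional (ZMod p) U.1 := Module.Finite.of_finite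
      rw [Subgroup.card_map_of_injective A.subtype_injective]
      have h := Module.natCard_eq_pow_finrank (K := ZMod p) (V := U.1)
      rw [U.2, Nat.card_zmod] at h
      rw [← h]
      exact Nat.card_congr (Additive.ofMul.subtypeEquiv fun a => Iff.rfl)
    obtain ⟨x, hx⟩ := hconj (S W) (S W') (Subgroup.map_subtype_le _) (Subgroup.map_subtype_le _)
      ((hS W).trans (hS W').symm)
    obtain ⟨a, l, hal⟩ := hdec x
    refine ⟨⟨ρ l, l, rfl⟩, ?_⟩
    haveI : FiniteDimensional (ZMod p) (Additive A) := Module.Finite.of_finite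
    refine Submodule.eq_of_le_of_finrank_eq ?_ (by rw [LinearEquiv.finrank_map_eq, W.2, W'.2])
    rintro _ ⟨u, hu, rfl⟩
    show ρ l u ∈ W'.1
    have h1 : MulAut.conj x ((Additive.toMul u : A) : N) ∈ S W' :=
      hx ▸ ⟨_, ⟨Additive.toMul u, hu, rfl⟩, rfl⟩
    rw [← hconjL x a l hal] at h1
    obtain ⟨b, hb, hb'⟩ := h1
    have h2 : Additive.ofMul b = ρ l u := Additive.toMul.injective (Subtype.ext hb')
    exact h2 ▸ hb
  let f₀ : L →* N ⧸ K := (QuotientGroup.mk' K).comp L.subtype
  have hker₀ : f₀.ker ≤ ρ.rangeRestrict.ker := by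
    intro l hl
    rw [MonoidHom.ker_rangeRestrict, MonoidHom.mem_ker]
    obtain ⟨l', hl', h1⟩ := hKfix (l : N) ((QuotientGroup.eq_one_iff _).mp hl)
    rwa [Subtype.ext hl'] at h1
  haveI := hsolv
  haveI : Group.IsSolvable (L ⧸ f₀.ker) :=
    Group.isSolvable_of_isSolvable_injective (QuotientGroup.kerLift_injective f₀)
  have hHsol : Group.IsSolvable H :=
    Group.isSolvable_of_surjective (QuotientGroup.lift_surjective_of_surjective f₀.ker ρ.rangeRestrict
      ρ.rangeRestrict_surjective hker₀)
  haveI : Finite H := Finite.of_surjective _ ρ.rangeRestrict_surjective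
  have hHcop : ¬ p ∣ Nat.card H := fun h => hL (h.trans (Subgroup.card_range_dvd ρ))
  obtain ⟨e, hsemi, hcases⟩ :=
    linear_main n hn hcardV H.subtype Subtype.coe_injective hHsol hHcop hline hplane
  -- the semi-affine action
  haveI : Finite (GaloisField p n) := Finite.of_equiv _ e.toEquiv
  let θ : GaloisField p n ≃ N ⧸ L := Equiv.ofBijective
    (fun u => QuotientGroup.mk ((Additive.toMul (e.symm u) : A) : N))
    ⟨fun u u' h => by
      have h1 := QuotientGroup.eq.mp h
      have h2 := hAL _ (A.mul_mem (A.inv_mem (Additive.toMul (e.symm u) : A).2)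
        (Additive.toMul (e.symm u') : A).2) h1
      rw [inv_mul_eq_one] at h2
      exact e.symm.injective (Additive.toMul.injective (Subtype.ext h2)),
    fun q => by
      induction q using QuotientGroup.induction_on with
      | H x =>
        obtain ⟨v, l, rfl⟩ := hdec x
        refine ⟨e (Additive.ofMul v), ?_⟩
        show QuotientGroup.mk ((Additive.toMul (e.symm (e (Additive.ofMul v))) : A) : N) = _
        rw [AddEquiv.symm_apply_apply, QuotientGroup.eq, toMul_ofMul, inv_mul_cancel_left]
        exact l.2⟩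
  let Φ : N →* Equiv.Perm (GaloisField p n) :=
    θ.symm.permCongrHom.toMonoidHom.comp (MulAction.toPermHom N (N ⧸ L))
  have hΦ : ∀ (v : A) (l : L) (u : GaloisField p n),
      Φ ((v : N) * l) u = e (ρ l (e.symm u)) + e (Additive.ofMul v) := by
    intro v l u
    show θ.symm (((v : N) * l) • θ u) = _
    rw [Equiv.symm_apply_eq, ← map_add]
    show ((v : N) * l) • (QuotientGroup.mk ((Additive.toMul (e.symm u) : A) : N) : N ⧸ L) =
      QuotientGroup.mk ((Additive.toMul (e.symm (e (_ + _))) : A) : N)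
    rw [AddEquiv.symm_apply_apply, MulAction.Quotient.smul_mk, QuotientGroup.eq, add_comm, toMul_add,
      toMul_ofMul, Subgroup.coe_mul, hρ, smul_eq_mul]
    have : ((v : N) * l * (Additive.toMul (e.symm u) : A))⁻¹ *
        ((v : N) * ((l : N) * (Additive.toMul (e.symm u) : A) * (l : N)⁻¹)) = (l : N)⁻¹ := by group
    rw [this]
    exact L.inv_mem l.2
  have hsemiΦ : ∀ x, Φ x ∈ Cfsg.semiaffineGroup (GaloisField p n) := by
    intro x
    obtain ⟨v, l, rfl⟩ := hdec x
    obtain ⟨a, σ, h⟩ := hsemi ⟨ρ l, l, rfl⟩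
    have ha : a ≠ 0 := by
      intro h0
      obtain ⟨w, hw⟩ := exists_ne (0 : Additive A)
      have h1 := h w
      rw [h0, zero_mul, ← map_zero e, e.injective.eq_iff] at h1
      exact hw ((ρ l).map_eq_zero_iff.mp h1)
    refine ⟨Units.mk0 a ha, e (Additive.ofMul v), σ, fun u => ?_⟩
    rw [hΦ, Units.val_mk0]
    have h1 := h (e.symm u)
    rw [AddEquiv.apply_symm_apply] at h1
    exact congrArg (· + _) h1
  let Φ' : N →* Cfsg.semiaffineGroup (GaloisField p n) := Φ.codRestrict _ hsemiΦ
  have hkerΦ : Φ'.ker = K := by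
    apply le_antisymm
    · refine le_pPrimeCore inferInstance ?_
      have hle : Φ'.ker ≤ L := by
        intro x hx
        obtain ⟨v, l, rfl⟩ := hdec x
        have h1 : Φ ((v : N) * l) = 1 := congrArg Subtype.val hx
        have h2 := congrArg (fun σ : Equiv.Perm _ => σ 0) h1
        simp only [Equiv.Perm.one_apply, hΦ, map_zero, zero_add] at h2
        rw [← map_zero e, e.injective.eq_iff] at h2
        have h3 : v = 1 := Additive.ofMul.injective h2
        rw [h3, OneMemClass.coe_one, one_mul]
        exact l.2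
      exact (hp.coprime_iff_not_dvd.mpr fun h => hL (h.trans (Subgroup.card_dvd_of_le hle))).symm
    · intro k hk
      obtain ⟨l, rfl, hl⟩ := hKfix k hk
      refine Subtype.ext (Equiv.ext fun u => ?_)
      show Φ (l : N) u = u
      have h1 := hΦ 1 l u
      rw [OneMemClass.coe_one, one_mul] at h1
      rw [h1, hl]
      show e (e.symm u) + e (Additive.ofMul 1) = u
      rw [AddEquiv.apply_symm_apply, ofMul_one, map_zero, add_zero]
  let f : N ⧸ K →* Cfsg.semiaffineGroup (GaloisField p n) := QuotientGroup.lift K Φ' hkerΦ.ge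
  have hf : Function.Injective f := by
    rw [injective_iff_map_eq_one]
    intro q
    induction q using QuotientGroup.induction_on with
    | H x => exact fun hx => (QuotientGroup.eq_one_iff x).mpr (hkerΦ ▸ (hx : Φ' x = 1))
  have hkerρ : ρ.ker = K.subgroupOf L := by
    ext l
    constructor
    · intro hl
      rw [Subgroup.mem_subgroupOf, ← hkerΦ]
      refine Subtype.ext (Equiv.ext fun u => ?_)
      show Φ (l : N) u = u
      have h1 := hΦ 1 l u
      rw [OneMemClass.coe_one, one_mul] at h1
      rw [h1, MonoidHom.mem_ker.mp hl]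
      show e (e.symm u) + e (Additive.ofMul 1) = u
      rw [AddEquiv.apply_symm_apply, ofMul_one, map_zero, add_zero]
    · intro hl
      obtain ⟨l', hl', h1⟩ := hKfix (l : N) hl
      rw [MonoidHom.mem_ker, ← Subtype.ext hl']
      exact h1
  have hKL : K ≤ L := fun k hk => by
    obtain ⟨l, rfl, -⟩ := hKfix k hk
    exact l.2
  have hNK : Nat.card (N ⧸ K) = p ^ n * Nat.card H := by
    have h1 := Subgroup.card_eq_card_quotient_mul_card_subgroup K
    have h2 := Subgroup.card_eq_card_quotient_mul_card_subgroup ρ.ker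
    rw [Nat.card_congr (QuotientGroup.quotientKerEquivRange ρ).toEquiv, hkerρ,
      Nat.card_congr (Subgroup.subgroupOfEquivOfLe hKL).toEquiv] at h2
    rw [← hcompl.card_mul_card, hcard, h2, ← mul_assoc] at h1
    exact (Nat.eq_of_mul_eq_mul_right Nat.card_pos h1).symm
  haveI : Finite (Cfsg.semiaffineGroup (GaloisField p n)) := inferInstance
  rcases hcases with ⟨rfl, h7⟩ | ⟨rfl, rfl, h155⟩
  · refine Or.inl ⟨rfl, ⟨f, hf⟩, fun hp2 => ?_⟩
    subst hp2
    rcases h7 rfl with h | h
    · right
      obtain ⟨-, hlin⟩ := semilinear_bound 3 (by norm_num) H.subtype Subtype.coe_injective e hsemi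
      have hcop : (Nat.card H).Coprime 3 := by rw [h]; norm_num
      have haff : ∀ x, Φ x ∈ Cfsg.affineGroup (GaloisField 2 3) := by
        intro x
        obtain ⟨v, l, rfl⟩ := hdec x
        obtain ⟨a, ha⟩ := hlin hcop ⟨ρ l, l, rfl⟩
        have ha0 : a ≠ 0 := by
          intro h0
          obtain ⟨w, hw⟩ := exists_ne (0 : Additive A)
          have h1 := ha w
          rw [h0, zero_mul, ← map_zero e, e.injective.eq_iff] at h1
          exact hw ((ρ l).map_eq_zero_iff.mp h1)
        refine ⟨Units.mk0 a ha0, e (Additive.ofMul v), fun u => ?_⟩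
        rw [hΦ, Units.val_mk0]
        have h1 := ha (e.symm u)
        rw [AddEquiv.apply_symm_apply] at h1
        exact congrArg (· + _) h1
      let f' : N ⧸ K →* Cfsg.affineGroup (GaloisField 2 3) :=
        QuotientGroup.lift K (Φ.codRestrict _ haff) fun k hk => Subtype.ext
          (congrArg Subtype.val (hkerΦ.ge hk : Φ' k = 1) :)
      have hf' : Function.Injective f' := by
        rw [injective_iff_map_eq_one]
        intro q
        induction q using QuotientGroup.induction_on with
        | H x =>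
          intro hx
          refine (QuotientGroup.eq_one_iff x).mpr ?_
          rw [← hkerΦ]
          exact Subtype.ext (congrArg Subtype.val hx :)
      refine ⟨MulEquiv.ofBijective f' ?_⟩
      refine hf'.bijective_of_nat_card_le ?_
      rw [hNK, h]
      exact (card_affine_le 2 3 (by norm_num)).trans (by norm_num)
    · left
      refine ⟨MulEquiv.ofBijective f ?_⟩
      refine hf.bijective_of_nat_card_le ?_
      rw [hNK, h]
      exact (card_semiaffine_le 2 3 (by norm_num)).trans (by norm_num)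
  · refine Or.inr ⟨rfl, rfl, ⟨MulEquiv.ofBijective f ?_⟩⟩
    refine hf.bijective_of_nat_card_le ?_
    rw [hNK, h155]
    exact (card_semiaffine_le 2 5 (by norm_num)).trans (by norm_num)

end Cfsg.Agent.Lib.SemilinearSylow
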