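import Cfsg.Agent.S3360
import Cfsg.Agent.Lib.Cores.Fitting
import Cfsg.Agent.Lib.Cores.PCore
import Cfsg.Agent.Lib.SemilinearSylow.Count
import Cfsg.Agent.Lib.TwoClassQuot.Linear

/-!
Solvable linear groups of order prime to `p` transitive on points and lines of projective space.
-/

set_option autoImplicit false
set_option linter.style.haveILetI false
set_option linter.unusedSectionVars false

namespace Cfsg.Agent.Lib.SemilinearSylow

open Cfsg.Agent.Lib.Cores

variable {p : ℕ} [Fact p.Prime] {V : Type*} [AddCommGroup V] [Module (ZMod p) V] [Finite V]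
  {X : Type*} [Group X] [Finite X]

theorem rho_mul_apply (ρ : X →* (V ≃ₗ[ZMod p] V)) (g h : X) (v : V) : ρ (g * h) v = ρ g (ρ h v) := by
  rw [map_mul]; rfl

/-- Each element acts as `x ↦ a * σ x` in the coordinate `e`. -/
def IsSemi {n : ℕ} (ρ : X →* (V ≃ₗ[ZMod p] V)) (e : V ≃+ GaloisField p n) : Prop :=
  ∀ g : X, ∃ (a : GaloisField p n) (σ : GaloisField p n ≃+* GaloisField p n),
    ∀ v : V, e (ρ g v) = a * σ (e v)

theorem semilinear_bound (n : ℕ) (hn : n ≠ 0) (ρ : X →* (V ≃ₗ[ZMod p] V))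
    (hρ : Function.Injective ρ) (e : V ≃+ GaloisField p n) (h : IsSemi ρ e) :
    Nat.card X ∣ (p ^ n - 1) * n ∧
    ((Nat.card X).Coprime n →
      ∀ g : X, ∃ a : GaloisField p n, ∀ v : V, e (ρ g v) = a * e v) := by
  classical
  choose a σ hσ using h
  have hp := (Fact.out : p.Prime)
  haveI : Finite (GaloisField p n) := Finite.of_equiv V e.toEquiv
  haveI : Nontrivial V := e.toEquiv.nontrivial
  have ha : ∀ g, a g ≠ 0 := by
    intro g hg
    obtain ⟨v, hv⟩ := exists_ne (0 : V)
    have h1 := hσ g v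
    rw [hg, zero_mul, ← map_zero e, e.injective.eq_iff] at h1
    exact hv ((ρ g).map_eq_zero_iff.mp h1)
  have huniq : ∀ (g : X) (b : GaloisField p n) (τ : GaloisField p n ≃+* GaloisField p n),
      (∀ v, e (ρ g v) = b * τ (e v)) → b = a g ∧ τ = σ g := by
    intro g b τ hb
    have h1 : ∀ x, b * τ x = a g * σ g x := by
      intro x
      obtain ⟨v, rfl⟩ := e.surjective x
      rw [← hb, ← hσ]
    have hba : b = a g := by simpa using h1 1
    subst hba
    exact ⟨rfl, RingEquiv.ext fun x => mul_left_cancel₀ (ha g) (h1 x)⟩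
  have hmul : ∀ g k, a g * σ g (a k) = a (g * k) ∧ (σ k).trans (σ g) = σ (g * k) := fun g k =>
    huniq _ _ _ fun v => by
      rw [rho_mul_apply, hσ, hσ, map_mul, RingEquiv.trans_apply, mul_assoc]
  let π : X →* RingAut (GaloisField p n) := MonoidHom.mk' σ fun g k => (hmul g k).2.symm
  let μ : π.ker →* (GaloisField p n)ˣ := MonoidHom.mk' (fun g => Units.mk0 (a g) (ha g)) fun g k => by
    ext
    have hid : σ (g : X) = RingEquiv.refl _ := g.2
    show a ((g : X) * k) = a (g : X) * a (k : X)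
    rw [← (hmul g k).1, hid, RingEquiv.refl_apply]
  have hμ : Function.Injective μ := by
    intro g k hgk
    apply Subtype.ext
    apply hρ
    refine LinearEquiv.ext fun v => e.injective ?_
    have h1 : σ (g : X) = RingEquiv.refl _ := g.2
    have h2 : σ (k : X) = RingEquiv.refl _ := k.2
    have h3 : a (g : X) = a (k : X) := congrArg Units.val hgk
    rw [hσ, hσ, h1, h2, h3]
  have hR : Nat.card (RingAut (GaloisField p n)) = n := card_ringAut_galoisField p n hn
  haveI : Finite (RingAut (GaloisField p n)) := Nat.finite_of_card_ne_zero (by rw [hR]; exact hn)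
  have hker : Nat.card π.ker ∣ p ^ n - 1 := by
    have := Subgroup.card_dvd_of_injective μ hμ
    rwa [Nat.card_units, GaloisField.card p n hn] at this
  have hran : Nat.card π.range ∣ n := by
    have := π.range.card_subgroup_dvd_card
    rwa [hR] at this
  have hsplit : Nat.card X = Nat.card π.ker * Nat.card π.range := by
    rw [Subgroup.card_eq_card_quotient_mul_card_subgroup π.ker,
      Nat.card_congr (QuotientGroup.quotientKerEquivRange π).toEquiv, mul_comm]
  refine ⟨hsplit ▸ Nat.mul_dvd_mul hker hran, fun hcop g => ⟨a g, fun v => ?_⟩⟩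
  have h1 : Nat.card π.range = 1 := Nat.eq_one_of_dvd_coprimes hcop (hsplit ▸ dvd_mul_left _ _) hran
  have h2 : π g = 1 := by
    have := (Subgroup.eq_bot_of_card_eq _ h1).le ⟨g, rfl⟩
    simpa using this
  rw [hσ, show σ g = RingEquiv.refl _ from h2, RingEquiv.refl_apply]

/-- Orbit counting on planes. -/
theorem card_eq_planes_mul (ρ : X →* (V ≃ₗ[ZMod p] V))
    (htr : ∀ W W' : Plane p V, ∃ g : X, W.1.map (ρ g : V →ₗ[ZMod p] V) = W'.1)
    (W₀ : Plane p V) :
    Nat.card X = Nat.card (Plane p V) *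
      Nat.card {g : X // W₀.1.map (ρ g : V →ₗ[ZMod p] V) = W₀.1} := by
  letI : MulAction X (Plane p V) :=
    { smul := fun g W => ⟨W.1.map (ρ g : V →ₗ[ZMod p] V), by rw [LinearEquiv.finrank_map_eq]; exact W.2⟩
      one_smul := fun W => Subtype.ext (by
        show W.1.map (ρ 1 : V →ₗ[ZMod p] V) = W.1
        rw [map_one]; exact Submodule.map_id _)
      mul_smul := fun g h W => Subtype.ext (by
        show W.1.map (ρ (g * h) : V →ₗ[ZMod p] V) =
          (W.1.map (ρ h : V →ₗ[ZMod p] V)).map (ρ g : V →ₗ[ZMod p] V)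
        rw [map_mul, ← Submodule.map_comp]; rfl) }
  haveI : MulAction.IsPretransitive X (Plane p V) :=
    ⟨fun W W' => (htr W W').imp fun g hg => Subtype.ext hg⟩
  have h := (MulAction.stabilizer X W₀).index_mul_card
  rw [MulAction.index_stabilizer, MulAction.orbit_eq_univ, Set.ncard_univ] at h
  rw [← h]
  congr 1
  exact Nat.card_congr (Equiv.subtypeEquivRight fun g => by
    rw [MulAction.mem_stabilizer_iff]; exact ⟨fun e => congrArg Subtype.val e, fun e => Subtype.ext e⟩)

/-- A normal `r`-subgroup is trivial if `|V| ≢ 1 (mod r)` and the group moves lines transitively. -/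
theorem pCore_eq_bot_of_not_modEq (r : ℕ) [Fact r.Prime] (ρ : X →* (V ≃ₗ[ZMod p] V))
    (hρ : Function.Injective ρ) (hline : ∀ v w : V, v ≠ 0 → w ≠ 0 → ∃ g : X, ∃ c : ZMod p, ρ g v = c • w)
    (hV : ¬ Nat.card V ≡ 1 [MOD r]) : Cfsg.pCore r X = ⊥ := by
  set R := Cfsg.pCore r X
  letI : MulAction R V :=
    { smul := fun g v => ρ (g : X) v
      one_smul := fun v => by show ρ 1 v = v; rw [map_one]; rfl
      mul_smul := fun g h v => rho_mul_apply ρ (g : X) (h : X) v }
  have hmod := (pCore_isPGroup r X).card_modEq_card_fixedPoints V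
  obtain ⟨v, hv0, hv⟩ : ∃ v : V, v ≠ 0 ∧ ∀ g ∈ R, ρ g v = v := by
    by_contra hne
    push Not at hne
    apply hV
    have h1 : Nat.card (MulAction.fixedPoints R V) = 1 := by
      rw [Nat.card_eq_one_iff_unique]
      refine ⟨⟨fun a b => ?_⟩, ⟨⟨0, fun g => map_zero (ρ (g : X))⟩⟩⟩
      have hz : ∀ c : MulAction.fixedPoints R V, (c : V) = 0 := by
        intro c
        by_contra hc
        obtain ⟨g, hg, hgc⟩ := hne c hc
        exact hgc (c.2 ⟨g, hg⟩)
      exact Subtype.ext (by rw [hz a, hz b])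
    rwa [h1] at hmod
  have hnorm : R.Normal := inferInstance
  rw [Subgroup.eq_bot_iff_forall]
  intro g hg
  apply hρ
  rw [map_one]
  refine LinearEquiv.ext fun w => ?_
  show ρ g w = w
  by_cases hw : w = 0
  · rw [hw, map_zero]
  obtain ⟨h, c, hc⟩ := hline v w hv0 hw
  have hfix : ρ g (ρ h v) = ρ h v := by
    have h1 := hv _ (hnorm.conj_mem g hg h⁻¹)
    rw [inv_inv] at h1
    rw [← rho_mul_apply, show g * h = h * (h⁻¹ * g * h) by group, rho_mul_apply, h1]
  have hc0 : c ≠ 0 := by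
    intro h0
    rw [h0, zero_smul] at hc
    exact hv0 ((ρ h).map_eq_zero_iff.mp hc)
  rw [hc, map_smul] at hfix
  exact smul_right_injective V hc0 hfix

/-- In dimension four over the field with three elements, `13` cannot divide the order. -/
theorem not_thirteen_dvd (hp3 : p = 3) (hV : Nat.card V = 81) (ρ : X →* (V ≃ₗ[ZMod p] V))
    (hρ : Function.Injective ρ) (hsol : Group.IsSolvable X) (h3 : ¬ 3 ∣ Nat.card X)
    (hline : ∀ v w : V, v ≠ 0 → w ≠ 0 → ∃ g : X, ∃ c : ZMod p, ρ g v = c • w) :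
    ¬ 13 ∣ Nat.card X := by
  classical
  subst hp3
  haveI : Fact (Nat.Prime 13) := ⟨by norm_num⟩
  haveI : FiniteDimensional (ZMod 3) V := Module.Finite.of_finite
  haveI := Fintype.ofFinite V
  have hfr : Module.finrank (ZMod 3) V = 4 := by
    have h := Module.natCard_eq_pow_finrank (K := ZMod 3) (V := V)
    rw [hV, Nat.card_zmod] at h
    exact (Nat.pow_right_injective (by norm_num) (show 3 ^ 4 = 3 ^ _ from (by norm_num : (3:ℕ) ^ 4 = 81).trans h)).symm
  let b := Module.finBasisOfFinrankEq (ZMod 3) V hfr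
  let τ : (V ≃ₗ[ZMod 3] V) ≃* GL (Fin 4) (ZMod 3) :=
    (LinearMap.GeneralLinearGroup.generalLinearEquiv (ZMod 3) V).symm.trans
      (Units.mapEquiv (LinearMap.toMatrixAlgEquiv b).toRingEquiv.toMulEquiv)
  have hGL : Nat.card X ∣ 2 ^ 9 * 3 ^ 6 * 5 * 13 := by
    have h := Subgroup.card_dvd_of_injective (τ.toMonoidHom.comp ρ) (τ.injective.comp hρ)
    rw [Matrix.card_GL_field, ZMod.card] at h
    simpa [Fin.prod_univ_four] using h
  intro h13
  obtain ⟨f, hf⟩ := exists_prime_orderOf_dvd_card' (G := X) 13 h13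
  have hf13 : f ^ 13 = 1 := hf ▸ pow_orderOf_eq_one f
  have hC : Cfsg.fittingSubgroup X ≤ Subgroup.centralizer ({f} : Set X) ⊓ Cfsg.pPrimeCore 13 X := by
    refine fittingSubgroup_le_of_pCore_le fun r hr => ?_
    haveI := Fact.mk hr
    by_cases hr13 : r = 13
    · subst hr13
      rw [pCore_eq_bot_of_not_modEq 13 ρ hρ hline (by rw [hV]; decide)]
      exact bot_le
    obtain ⟨i, hi⟩ := IsPGroup.iff_card.mp (pCore_isPGroup r X)
    have hd : r ^ i ∣ Nat.card X := hi ▸ Subgroup.card_subgroup_dvd_card _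
    refine le_inf ?_ (le_pPrimeCore inferInstance (by
      rw [hi]; exact ((Nat.coprime_primes hr (by norm_num)).mpr hr13).pow_left i))
    have hmod := Cfsg.Agent.Lib.TwoClassQuot.card_modEq_fixed (ℓ := 13) (Cfsg.pCore r X) f
      ⟨1, by rw [pow_one, hf13]⟩ fun w hw => (inferInstance : (Cfsg.pCore r X).Normal).conj_mem w hw f
    obtain ⟨j, hji, hj⟩ := (Nat.dvd_prime_pow hr).mp (hi ▸ Subgroup.card_dvd_of_le
      (inf_le_left : Cfsg.pCore r X ⊓ Subgroup.centralizer ({f} : Set X) ≤ Cfsg.pCore r X))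
    rw [hi, hj] at hmod
    suffices hij : i = j by
      have := Subgroup.eq_of_le_of_card_ge
        (inf_le_left : Cfsg.pCore r X ⊓ Subgroup.centralizer ({f} : Set X) ≤ Cfsg.pCore r X)
        (by rw [hi, hj, hij])
      exact this.symm.le.trans inf_le_right
    rcases Nat.eq_zero_or_pos i with rfl | hi0
    · omega
    have hrd : r ∣ 2 ^ 9 * 3 ^ 6 * 5 * 13 := ((dvd_pow_self r hi0.ne').trans hd).trans hGL
    have hr' : r = 2 ∨ r = 5 := by
      rcases hr.dvd_mul.mp hrd with h | h
      · rcases hr.dvd_mul.mp h with h' | h'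
        · rcases hr.dvd_mul.mp h' with h'' | h''
          · exact Or.inl ((Nat.prime_dvd_prime_iff_eq hr Nat.prime_two).mp (hr.dvd_of_dvd_pow h''))
          · have := (Nat.prime_dvd_prime_iff_eq hr Nat.prime_three).mp (hr.dvd_of_dvd_pow h'')
            subst this
            exact absurd ((dvd_pow_self 3 hi0.ne').trans hd) h3
        · exact Or.inr ((Nat.prime_dvd_prime_iff_eq hr (by norm_num)).mp h')
      · exact absurd ((Nat.prime_dvd_prime_iff_eq hr (by norm_num)).mp h) hr13
    rcases hr' with rfl | rfl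
    · have hi9 : i ≤ 9 := by
        by_contra hlt
        have := ((pow_dvd_pow 2 (show 10 ≤ i by omega)).trans hd).trans hGL
        norm_num at this
      interval_cases i <;> interval_cases j <;> first | rfl | (exact absurd hmod (by decide))
    · have hi1 : i ≤ 1 := by
        by_contra hlt
        have := ((pow_dvd_pow 5 (show 2 ≤ i by omega)).trans hd).trans hGL
        norm_num at this
      interval_cases i <;> interval_cases j <;> first | rfl | (exact absurd hmod (by decide))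
  have hfF : f ∈ Cfsg.fittingSubgroup X :=
    centralizer_fittingSubgroup_le hsol (Subgroup.mem_centralizer_iff.mpr fun y hy =>
      Subgroup.mem_centralizer_singleton_iff.mp (hC hy).1)
  have h1 : orderOf f ∣ Nat.card (Cfsg.pPrimeCore 13 X) :=
    Subgroup.orderOf_dvd_natCard _ (hC hfF).2
  exact not_dvd_card_pPrimeCore (p := 13) (hf ▸ h1)

theorem pow_bound {p : ℕ} (hp : 2 ≤ p) (m : ℕ) : (m + 6) * p ^ 2 < p ^ (m + 5) := by
  induction m with
  | zero =>
    have : 8 ≤ p ^ 3 := Nat.pow_le_pow_left hp 3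
    have : 0 < p ^ 2 := by positivity
    simp only [zero_add]
    rw [show p ^ 5 = p ^ 3 * p ^ 2 by rw [← pow_add]]
    nlinarith
  | succ m ih =>
    calc (m + 1 + 6) * p ^ 2 ≤ 2 * ((m + 6) * p ^ 2) := by nlinarith
      _ < 2 * p ^ (m + 5) := by omega
      _ ≤ p * p ^ (m + 5) := Nat.mul_le_mul_right _ hp
      _ = p ^ (m + 1 + 5) := by rw [← pow_succ']

theorem small_dimension {p n : ℕ} (hp : p.Prime) (hn : 4 ≤ n)
    (h : p ^ n - p ≤ n * (p ^ 2 - 1) * p) : (n = 4 ∧ (p = 2 ∨ p = 3)) ∨ (n = 5 ∧ p = 2) := by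
  have hp2 := hp.two_le
  have h' : p ^ (n - 1) ≤ n * (p ^ 2 - 1) + 1 := by
    have h1 : p ^ n = p ^ (n - 1) * p := by rw [← pow_succ, Nat.sub_add_cancel (by omega)]
    have h2 : p ^ (n - 1) * p ≤ (n * (p ^ 2 - 1) + 1) * p := by rw [add_mul, one_mul]; omega
    exact Nat.le_of_mul_le_mul_right h2 (by omega)
  have hsq : 4 ≤ p ^ 2 := Nat.pow_le_pow_left hp2 2
  rcases Nat.lt_or_ge n 6 with h6 | h6
  · interval_cases n
    · left
      refine ⟨rfl, ?_⟩
      simp only [show 4 - 1 = 3 from rfl] at h'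
      have : p < 4 := by
        by_contra hge
        have : 4 * p ^ 2 ≤ p ^ 3 := by rw [pow_succ p 2, mul_comm]; exact Nat.mul_le_mul_left _ (by omega)
        omega
      omega
    · right
      refine ⟨rfl, ?_⟩
      simp only [show 5 - 1 = 4 from rfl] at h'
      by_contra hne
      have : 9 ≤ p ^ 2 := Nat.pow_le_pow_left (show 3 ≤ p by omega) 2
      have : 9 * p ^ 2 ≤ p ^ 4 := by rw [show p ^ 4 = p ^ 2 * p ^ 2 by ring]; exact Nat.mul_le_mul_right _ this
      omega
  · obtain ⟨m, rfl⟩ : ∃ m, n = m + 6 := ⟨n - 6, by omega⟩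
    have := pow_bound hp2 m
    simp only [show m + 6 - 1 = m + 5 from rfl] at h'
    rw [Nat.mul_sub, mul_one] at h'
    have : m + 6 ≤ (m + 6) * p ^ 2 := Nat.le_mul_of_pos_right _ (by omega)
    omega

theorem linear_main [Nontrivial V] (n : ℕ) (hn : 3 ≤ n) (hcard : Nat.card V = p ^ n)
    (ρ : X →* (V ≃ₗ[ZMod p] V)) (hρ : Function.Injective ρ) (hsol : Group.IsSolvable X)
    (hcop : ¬ p ∣ Nat.card X)
    (hline : ∀ v w : V, v ≠ 0 → w ≠ 0 → ∃ g : X, ∃ c : ZMod p, ρ g v = c • w)
    (hplane : ∀ W W' : Plane p V, ∃ g : X, W.1.map (ρ g : V →ₗ[ZMod p] V) = W'.1) :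
    ∃ e : V ≃+ GaloisField p n, IsSemi ρ e ∧
      ((n = 3 ∧ (p = 2 → Nat.card X = 7 ∨ Nat.card X = 21)) ∨
        (n = 5 ∧ p = 2 ∧ Nat.card X = 155)) := by
  classical
  have hp : p.Prime := Fact.out
  have hp2 := hp.two_le
  obtain ⟨W₀⟩ := exists_plane (p := p) (V := V) n (by omega) hcard
  have hcount := card_planes_mul (p := p) (V := V) n (by omega) hcard
  have hXplanes : Nat.card (Plane p V) ∣ Nat.card X := ⟨_, card_eq_planes_mul ρ hplane W₀⟩
  have h81 : ¬ (p = 3 ∧ n = 4) := by
    rintro ⟨rfl, rfl⟩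
    refine not_thirteen_dvd rfl (by rw [hcard]; norm_num) ρ hρ hsol hcop hline ?_
    norm_num at hcount
    exact (show 13 ∣ Nat.card (Plane 3 V) by omega).trans hXplanes
  -- adjoin the scalars
  let s : (ZMod p)ˣ →* (V ≃ₗ[ZMod p] V) := MonoidHom.mk' (fun u => LinearEquiv.smulOfUnit u)
    fun u w => LinearEquiv.ext fun v => by
      show ((u * w : (ZMod p)ˣ) : ZMod p) • v = (u : ZMod p) • ((w : ZMod p) • v)
      rw [Units.val_mul, mul_smul]
  have hs : ∀ (u : (ZMod p)ˣ) (v : V), s u v = (u : ZMod p) • v := fun u v => rfl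
  let ρ' : X × (ZMod p)ˣ →* (V ≃ₗ[ZMod p] V) := MonoidHom.mk' (fun x => ρ x.1 * s x.2) fun x y =>
    LinearEquiv.ext fun v => by
      show ρ (x.1 * y.1) (s (x.2 * y.2) v) = ρ x.1 (s x.2 (ρ y.1 (s y.2 v)))
      rw [rho_mul_apply, map_mul, LinearEquiv.mul_apply, hs x.2, hs x.2, map_smul (ρ y.1)]
  haveI : Group.IsSolvable X := hsol
  have hRsol : Group.IsSolvable ρ'.range := Group.isSolvable_of_surjective ρ'.rangeRestrict_surjective
  haveI : Finite ρ'.range := Finite.of_surjective _ ρ'.rangeRestrict_surjective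
  have htrans : ∀ v w : V, v ≠ 0 → w ≠ 0 → ∃ g : ρ'.range, ρ'.range.subtype g v = w := by
    intro v w hv hw
    obtain ⟨g, c, hc⟩ := hline v w hv hw
    have hc0 : c ≠ 0 := by
      intro h0
      rw [h0, zero_smul] at hc
      exact hv ((ρ g).map_eq_zero_iff.mp hc)
    refine ⟨⟨ρ' (g, (Units.mk0 c hc0)⁻¹), ⟨_, rfl⟩⟩, ?_⟩
    show ρ g (s _ v) = w
    rw [hs, map_smul, hc, Units.val_inv_eq_inv_val, Units.val_mk0, smul_smul, inv_mul_cancel₀ hc0,
      one_smul]
  obtain ⟨F, _, _, e, he⟩ | hex :=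
    Cfsg.Agent.S3360.result p hRsol ρ'.range.subtype Subtype.coe_injective htrans
  swap
  · exfalso
    simp only [Set.mem_insert_iff, Set.mem_singleton_iff] at hex
    rw [hcard] at hex
    have hd : ∀ q m : ℕ, q.Prime → 0 < m → p ^ n = q ^ m → p = q ∧ n = m := by
      intro q m hq hm h
      have h1 : p = q := (Nat.prime_dvd_prime_iff_eq hp hq).mp
        (hp.dvd_of_dvd_pow (h ▸ dvd_pow_self p (by omega)))
      subst h1
      exact ⟨rfl, Nat.pow_right_injective hp2 h⟩
    rcases hex with h | h | h | h | h | h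
    · have := hd 3 2 Nat.prime_three (by norm_num) (by rw [h]; norm_num); omega
    · have := hd 5 2 (by norm_num) (by norm_num) (by rw [h]; norm_num); omega
    · have := hd 7 2 (by norm_num) (by norm_num) (by rw [h]; norm_num); omega
    · have := hd 11 2 (by norm_num) (by norm_num) (by rw [h]; norm_num); omega
    · have := hd 23 2 (by norm_num) (by norm_num) (by rw [h]; norm_num); omega
    · exact h81 (hd 3 4 Nat.prime_three (by norm_num) (by rw [h]; norm_num))
  haveI : Finite (GaloisField p n) := Nat.finite_of_card_ne_zero (by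
    rw [GaloisField.card p n (by omega)]; exact pow_ne_zero _ hp.ne_zero)
  haveI := Fintype.ofFinite (GaloisField p n)
  let r : F ≃+* GaloisField p n := FiniteField.ringEquivOfCardEq (by
    rw [← Nat.card_eq_fintype_card, ← Nat.card_eq_fintype_card, GaloisField.card p n (by omega),
      ← hcard, Nat.card_congr e.toEquiv])
  let e' : V ≃+ GaloisField p n := e.trans r.toAddEquiv
  have he' : IsSemi ρ'.range.subtype e' := by
    intro g
    obtain ⟨a, σ, h⟩ := he g
    refine ⟨r a, (r.symm.trans σ).trans r, fun v => ?_⟩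
    show r (e (ρ'.range.subtype g v)) = r a * r (σ (r.symm (r (e v))))
    rw [RingEquiv.symm_apply_apply, h, map_mul]
  have heX : IsSemi ρ e' := by
    intro g
    obtain ⟨a, σ, h⟩ := he' ⟨ρ' (g, 1), ⟨_, rfl⟩⟩
    refine ⟨a, σ, fun v => ?_⟩
    rw [← h v]
    show e' (ρ g v) = e' (ρ g (s 1 v))
    rw [hs, Units.val_one, one_smul]
  refine ⟨e', heX, ?_⟩
  obtain ⟨hXbound, -⟩ := semilinear_bound n (by omega) ρ hρ e' heX
  obtain ⟨hRbound, -⟩ := semilinear_bound n (by omega) _ Subtype.coe_injective e' he'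
  rcases Nat.lt_or_ge n 4 with hn4 | hn4
  · obtain rfl : n = 3 := by omega
    refine Or.inl ⟨rfl, fun hp' => ?_⟩
    subst hp'
    norm_num at hcount hXbound
    have h7 : 7 ∣ Nat.card X := (show 7 ∣ Nat.card (Plane 2 V) by omega).trans hXplanes
    have hle := Nat.le_of_dvd (by norm_num) hXbound
    interval_cases Nat.card X <;> omega
  · have hRplane : ∀ W W' : Plane p V, ∃ g : ρ'.range,
        W.1.map (ρ'.range.subtype g : V →ₗ[ZMod p] V) = W'.1 := fun W W' => by
      obtain ⟨g, hg⟩ := hplane W W'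
      refine ⟨⟨ρ' (g, 1), ⟨_, rfl⟩⟩, ?_⟩
      rw [← hg]
      congr 1
      ext v
      show ρ g (s 1 v) = ρ g v
      rw [hs, Units.val_one, one_smul]
    have hstab : p - 1 ≤ Nat.card {g : ρ'.range //
        W₀.1.map (ρ'.range.subtype g : V →ₗ[ZMod p] V) = W₀.1} := by
      rw [show p - 1 = Nat.card (ZMod p)ˣ by rw [Nat.card_units, Nat.card_zmod]]
      refine Nat.card_le_card_of_injective (fun u => ⟨⟨ρ' (1, u), ⟨_, rfl⟩⟩, ?_⟩) ?_
      · ext v
        constructor
        · rintro ⟨w, hw, rfl⟩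
          show ρ 1 (s u w) ∈ W₀.1
          rw [map_one, hs]
          exact W₀.1.smul_mem _ hw
        · intro hv
          refine ⟨((u⁻¹ : (ZMod p)ˣ) : ZMod p) • v, W₀.1.smul_mem _ hv, ?_⟩
          show ρ 1 (s u _) = v
          rw [map_one, hs, smul_smul, Units.mul_inv, one_smul]; rfl
      · intro u w h
        obtain ⟨v, hv⟩ := exists_ne (0 : V)
        have h1 := congrArg (fun g => ((g : {g : ρ'.range //
          W₀.1.map (ρ'.range.subtype g : V →ₗ[ZMod p] V) = W₀.1}).1 : V ≃ₗ[ZMod p] V) v) h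
        change ρ 1 (s u v) = ρ 1 (s w v) at h1
        rw [hs, hs, (ρ 1).injective.eq_iff] at h1
        exact Units.ext (smul_left_injective (ZMod p) hv h1)
    have hle : Nat.card (Plane p V) * (p - 1) ≤ (p ^ n - 1) * n := by
      refine le_trans ?_ (Nat.le_of_dvd (Nat.mul_pos ?_ (by omega)) hRbound)
      · rw [card_eq_planes_mul _ hRplane W₀]
        exact Nat.mul_le_mul_left _ hstab
      · have : 1 < p ^ n := Nat.one_lt_pow (by omega) (by omega)
        omega
    have hmain : p ^ n - p ≤ n * (p ^ 2 - 1) * p := by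
      have hP : 0 < (p ^ n - 1) := by
        have : 1 < p ^ n := Nat.one_lt_pow (by omega) (by omega)
        omega
      have h1 : (p ^ n - 1) * (p ^ n - p) * (p - 1) ≤ (p ^ n - 1) * (n * (p ^ 2 - 1) * p) * (p - 1) := by
        calc (p ^ n - 1) * (p ^ n - p) * (p - 1)
            = Nat.card (Plane p V) * (p - 1) * ((p ^ 2 - 1) * (p ^ 2 - p)) := by rw [← hcount]; ring
          _ ≤ (p ^ n - 1) * n * ((p ^ 2 - 1) * (p ^ 2 - p)) := Nat.mul_le_mul_right _ hle
          _ = (p ^ n - 1) * (n * (p ^ 2 - 1) * p) * (p - 1) := by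
            rw [show p ^ 2 - p = p * (p - 1) by rw [sq, Nat.mul_sub, mul_one]]; ring
      exact Nat.le_of_mul_le_mul_left (Nat.le_of_mul_le_mul_right h1 (by omega)) hP
    rcases small_dimension hp hn4 hmain with ⟨rfl, rfl | rfl⟩ | ⟨rfl, rfl⟩
    · exfalso
      norm_num at hcount hXbound
      have h35 : 35 ∣ Nat.card X := (show 35 ∣ Nat.card (Plane 2 V) by omega).trans hXplanes
      have := h35.trans hXbound
      norm_num at this
    · exact absurd ⟨rfl, rfl⟩ h81
    · refine Or.inr ⟨rfl, rfl, ?_⟩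
      norm_num at hcount hXbound
      have h155 : 155 ∣ Nat.card X := (show 155 ∣ Nat.card (Plane 2 V) by omega).trans hXplanes
      exact Nat.dvd_antisymm hXbound h155

end Cfsg.Agent.Lib.SemilinearSylow
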